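import Groth.Agent.Lib.NormFib.Scheme
import Groth.Agent.Lib.NormalExt.Basic
import Groth.Prelude.Def_Pi1

/-!
The normalization of an integral scheme is normal.
-/

set_option backward.isDefEq.respectTransparency false

universe u

open CategoryTheory AlgebraicGeometry

namespace GrothLib.NormFib

variable {X : Scheme.{u}} [IsIntegral X]
  [QuasiCompact (X.fromSpecStalk (genericPoint X))] [QuasiSeparated (X.fromSpecStalk (genericPoint X))]

theorem isFractionRing_chart {U : X.Opens} (hU : IsAffineOpen U) [Nonempty U]
    [Algebra Γ(Curv2.normalization X, pre U) X.functionField]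
    (htow : letI := chartAlgebra U
      IsScalarTower Γ(X, U) Γ(Curv2.normalization X, pre U) X.functionField)
    (hinj : Function.Injective (algebraMap Γ(Curv2.normalization X, pre U) X.functionField)) :
    IsFractionRing Γ(Curv2.normalization X, pre U) X.functionField := by
  let _ := chartAlgebra U
  have := functionField_isFractionRing_of_isAffineOpen X U hU
  have : FaithfulSMul Γ(Curv2.normalization X, pre U) X.functionField :=
    (faithfulSMul_iff_algebraMap_injective _ _).mpr hinj
  refine IsFractionRing.of_field _ X.functionField fun w => ?_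
  obtain ⟨a, b, -, rfl⟩ := IsFractionRing.div_surjective (A := Γ(X, U)) w
  exact ⟨algebraMap _ _ a, algebraMap _ _ b, by rw [← IsScalarTower.algebraMap_apply, ← IsScalarTower.algebraMap_apply]⟩

theorem isIntegrallyClosed_chart {U : X.Opens} (hU : IsAffineOpen U) [Nonempty U] :
    IsDomain Γ(Curv2.normalization X, pre U) ∧ IsIntegrallyClosed Γ(Curv2.normalization X, pre U) := by
  let _ := chartAlgebra U
  obtain ⟨_, htow, hic⟩ := exists_chart hU
  have hinj := IsIntegralClosure.algebraMap_injective Γ(Curv2.normalization X, pre U) Γ(X, U) X.functionField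
  have := isFractionRing_chart hU htow hinj
  have hdom : IsDomain Γ(Curv2.normalization X, pre U) := Function.Injective.isDomain _ hinj
  have : Algebra.IsIntegral Γ(X, U) Γ(Curv2.normalization X, pre U) :=
    IsIntegralClosure.isIntegral_algebra Γ(X, U) X.functionField
  refine ⟨hdom, (isIntegrallyClosed_iff X.functionField).mpr fun {w} hw => ?_⟩
  exact (IsIntegralClosure.isIntegral_iff (A := Γ(Curv2.normalization X, pre U)) (R := Γ(X, U))).1
    (isIntegral_trans w hw)

theorem isNormalScheme_normalization : Pi1.IsNormalScheme (Curv2.normalization X) := by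
  intro z
  obtain ⟨_, ⟨U, hU, rfl⟩, hzU, -⟩ :=
    X.isBasis_affineOpens.exists_subset_of_mem_open (Set.mem_univ (Curv2.normalizationι X z)) isOpen_univ
  have hU : IsAffineOpen U := hU
  have : Nonempty U := ⟨⟨_, hzU⟩⟩
  obtain ⟨_, hic⟩ := isIntegrallyClosed_chart hU
  let W := pre U
  let _ := TopCat.Presheaf.algebra_section_stalk (Curv2.normalization X).presheaf (⟨z, hzU⟩ : W)
  have := (isAffineOpen_pre hU).isLocalization_stalk ⟨z, hzU⟩
  let P := ((isAffineOpen_pre hU).primeIdealOf ⟨z, hzU⟩).asIdeal
  exact ⟨inferInstance, isIntegrallyClosed_of_isLocalization ((Curv2.normalization X).presheaf.stalk z)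
    P.primeCompl P.primeCompl_le_nonZeroDivisors⟩

end GrothLib.NormFib
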