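import Groth.Agent.Lib.NormFib.Birational
import Groth.Agent.Lib.OX.Exact
import Groth.Prelude.Def_ClSub2
import Groth.Prelude.Def_Curv2

/-!
The stalks of the cokernel of `O_X ⟶ ν_* O` for the normalization.
-/

set_option backward.isDefEq.respectTransparency false

universe u

open CategoryTheory CategoryTheory.Limits AlgebraicGeometry Opposite

namespace GrothLib.NormFib

variable {X : Scheme.{u}} [IsIntegral X]
  [QuasiCompact (X.fromSpecStalk (genericPoint X))] [QuasiSeparated (X.fromSpecStalk (genericPoint X))]

theorem map_genericPoint :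
    Curv2.normalizationι X (genericPoint (Curv2.normalization X)) = genericPoint X := by
  obtain ⟨t, ht⟩ : genericPoint X ∈ Set.range (X.fromSpecStalk (genericPoint X)) := by
    rw [Scheme.range_fromSpecStalk]
    exact specializes_rfl
  let z : Curv2.normalization X := (X.fromSpecStalk (genericPoint X)).toNormalization t
  have hz : Curv2.normalizationι X z = genericPoint X := by
    rw [← ht]
    exact congrArg (fun φ : Spec _ ⟶ X => φ t)
      (X.fromSpecStalk (genericPoint X)).toNormalization_fromNormalization
  refine (Specializes.antisymm ?_ ((genericPoint_spec X).specializes trivial)).eq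
  rw [← hz]
  exact ((genericPoint_spec (Curv2.normalization X)).specializes trivial).map
    (Curv2.normalizationι X).continuous

theorem genericPoint_mem_pre {U : X.Opens} {x : X} (hx : x ∈ U) :
    genericPoint (Curv2.normalization X) ∈ pre U := by
  show Curv2.normalizationι X (genericPoint (Curv2.normalization X)) ∈ U
  rw [map_genericPoint]
  exact ((genericPoint_spec X).mem_open_set_iff U.isOpen).mpr ⟨x, trivial, hx⟩

theorem specializes_map_genericPoint (x : X) :
    Curv2.normalizationι X (genericPoint (Curv2.normalization X)) ⤳ x := by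
  rw [map_genericPoint]
  exact (genericPoint_spec X).specializes trivial

/-- The local ring of `X` in the function field of the normalization. -/
noncomputable def toFF (x : X) : X.presheaf.stalk x →+* (Curv2.normalization X).functionField :=
  (X.presheaf.stalkSpecializes (specializes_map_genericPoint x) ≫
    (Curv2.normalizationι X).stalkMap (genericPoint (Curv2.normalization X))).hom

theorem toFF_germ {U : X.Opens} {x : X} (hx : x ∈ U) (a : Γ(X, U)) :
    toFF x (X.presheaf.germ U x hx a) =
      (Curv2.normalization X).presheaf.germ (pre U) _ (genericPoint_mem_pre hx)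
        ((Curv2.normalizationι X).app U a) := by
  have h := ConcreteCategory.congr_hom
    (X.presheaf.germ_stalkSpecializes hx (specializes_map_genericPoint x)) a
  exact (congrArg ((Curv2.normalizationι X).stalkMap _).hom h).trans
    (Scheme.Hom.germ_stalkMap_apply (Curv2.normalizationι X) U _ _ a)

/-- The pushforward of the structure sheaf of the normalization. -/
noncomputable abbrev pushO (X : Scheme.{u}) [IsIntegral X]
    [QuasiCompact (X.fromSpecStalk (genericPoint X))] [QuasiSeparated (X.fromSpecStalk (genericPoint X))] :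
    X.Modules :=
  (Scheme.Modules.pushforward (Curv2.normalizationι X)).obj (Coh.structureModule (Curv2.normalization X))

/-- A linear map out of a stalk from compatible maps on sections. -/
theorem exists_desc (x : X) (P : CohB1.PMod X) (N : ModuleCat.{u} (X.presheaf.stalk x))
    (g : ∀ U : X.Opens, x ∈ U → (P.obj (op U) →+ N))
    (hnat : ∀ {U V : X.Opens} (i : U ⟶ V) (hx : x ∈ U) (m : P.obj (op V)),
      g U hx (P.map i.op m) = g V (i.le hx) m)
    (hsmul : ∀ (U : X.Opens) (hx : x ∈ U) (r : X.presheaf.obj (op U)) (m : P.obj (op U)),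
      g U hx ((r : X.presheaf.obj (op U)) • m) = X.presheaf.germ U x hx r • g U hx m) :
    ∃ Φ : OX.stalkObj x P →ₗ[X.presheaf.stalk x] N,
      ∀ (U : X.Opens) (hx : x ∈ U) (m : P.obj (op U)), Φ (OX.germ P U hx m) = g U hx m := by
  let ψ : P ⟶ OX.skyPreObj x N :=
    { app := fun U => ModuleCat.ofHom (X := P.obj U) (Y := OX.SkySec x N U)
        { toFun := fun m h => g U.unop h.down m
          map_add' := fun m m' => funext fun h => map_add (g U.unop h.down) m m'
          map_smul' := fun r m => funext fun h => hsmul U.unop h.down r m }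
      naturality := fun {U V} i => by
        ext m
        funext h
        exact hnat i.unop h.down m }
  exact ⟨((OX.stalkHomEquiv x P N).symm ψ).hom, fun U hx m => OX.stalkDesc_germ ψ U hx m⟩

/-- The map from the stalk of `ν_* O` to the function field. -/
theorem exists_stalk_to_ff (x : X) :
    letI := (toFF (X := X) x).toAlgebra
    ∃ Φ : OX.stalkObj x (DCoh.toP.obj (pushO X)) →ₗ[X.presheaf.stalk x] (Curv2.normalization X).functionField,
      ∀ (U : X.Opens) (hx : x ∈ U) (m : Γ(Curv2.normalization X, pre U)),
        Φ (OX.germ (DCoh.toP.obj (pushO X)) U hx m) =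
          (Curv2.normalization X).presheaf.germ (pre U) _ (genericPoint_mem_pre hx) m := by
  let _ := (toFF (X := X) x).toAlgebra
  let N : ModuleCat.{u} (X.presheaf.stalk x) := ModuleCat.of _ (Curv2.normalization X).functionField
  obtain ⟨Φ, hΦ⟩ := exists_desc x (DCoh.toP.obj (pushO X)) N
    (fun U hx => ((Curv2.normalization X).presheaf.germ (pre U) _ (genericPoint_mem_pre hx)).hom.toAddMonoidHom)
    (fun {U V} i hx m => TopCat.Presheaf.germ_res_apply (Curv2.normalization X).presheaf
      (homOfLE ((Curv2.normalizationι X).preimage_mono i.le)) _ (genericPoint_mem_pre hx) m)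
    (fun U hx r m => (map_mul ((Curv2.normalization X).presheaf.germ (pre U) _ (genericPoint_mem_pre hx)).hom
      ((Curv2.normalizationι X).app U r) m).trans (congrArg (· * _) (toFF_germ hx r).symm))
  exact ⟨Φ, hΦ⟩

theorem isFractionRing_stalk_ff (x : X) :
    letI := (toFF (X := X) x).toAlgebra
    IsFractionRing (X.presheaf.stalk x) (Curv2.normalization X).functionField := by
  let _ := (toFF (X := X) x).toAlgebra
  obtain ⟨_, ⟨U, hU, rfl⟩, hxU, -⟩ :=
    X.isBasis_affineOpens.exists_subset_of_mem_open (Set.mem_univ x) isOpen_univ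
  have hU : IsAffineOpen U := hU
  have : Nonempty U := ⟨⟨_, hxU⟩⟩
  let _ := chartAlgebra (X := X) U
  obtain ⟨_, htow, hic⟩ := exists_chart hU
  have : IsFractionRing Γ(Curv2.normalization X, pre U) X.functionField := isFractionRing_chart hU htow
    (IsIntegralClosure.algebraMap_injective _ Γ(X, U) X.functionField)
  have : Nonempty (pre U) := ⟨⟨_, genericPoint_mem_pre hxU⟩⟩
  have := functionField_isFractionRing_of_isAffineOpen (Curv2.normalization X) (pre U) (isAffineOpen_pre hU)
  let E := IsLocalization.algEquiv (nonZeroDivisors Γ(Curv2.normalization X, pre U)) X.functionField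
    (Curv2.normalization X).functionField
  let _ : Algebra Γ(X, U) (Curv2.normalization X).functionField :=
    ((algebraMap Γ(Curv2.normalization X, pre U) (Curv2.normalization X).functionField).comp
      (algebraMap Γ(X, U) _)).toAlgebra
  have : IsScalarTower Γ(X, U) Γ(Curv2.normalization X, pre U) (Curv2.normalization X).functionField :=
    IsScalarTower.of_algebraMap_eq fun a => rfl
  have := functionField_isFractionRing_of_isAffineOpen X U hU
  have : IsFractionRing Γ(X, U) (Curv2.normalization X).functionField :=
    IsLocalization.isLocalization_of_algEquiv (nonZeroDivisors Γ(X, U)) (E.restrictScalars Γ(X, U))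
  let _ := TopCat.Presheaf.algebra_section_stalk X.presheaf (⟨x, hxU⟩ : U)
  have := hU.isLocalization_stalk ⟨x, hxU⟩
  have : IsScalarTower Γ(X, U) (X.presheaf.stalk x) (Curv2.normalization X).functionField :=
    IsScalarTower.of_algebraMap_eq fun a => (toFF_germ hxU a).symm
  exact IsFractionRing.isFractionRing_of_isDomain_of_isLocalization
    (hU.primeIdealOf ⟨x, hxU⟩).asIdeal.primeCompl (X.presheaf.stalk x) (Curv2.normalization X).functionField

/-- The stalk of `ν_* O` is the integral closure of the local ring in the function field. -/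
theorem exists_stalk_equiv (x : X) :
    letI := (toFF (X := X) x).toAlgebra
    ∃ e : OX.stalkObj x (DCoh.toP.obj (pushO X)) ≃ₗ[X.presheaf.stalk x]
        integralClosure (X.presheaf.stalk x) (Curv2.normalization X).functionField,
      e (OX.germ (DCoh.toP.obj (pushO X)) ⊤ trivial (1 : Γ(Curv2.normalization X, pre ⊤))) = 1 := by
  let _ := (toFF (X := X) x).toAlgebra
  obtain ⟨Φ, hΦ⟩ := exists_stalk_to_ff (X := X) x
  have hinj : Function.Injective Φ := by
    rw [injective_iff_map_eq_zero]
    intro e he
    obtain ⟨U, hx, m, rfl⟩ := OX.germ_exists _ e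
    rw [hΦ] at he
    have hm : m = 0 := germ_injective_of_isIntegral (Curv2.normalization X) _ (genericPoint_mem_pre hx)
      (he.trans (map_zero _).symm)
    rw [hm]
    exact map_zero _
  have hint : ∀ e, Φ e ∈ integralClosure (X.presheaf.stalk x) (Curv2.normalization X).functionField := by
    intro e
    obtain ⟨W, hxW, m, rfl⟩ := OX.germ_exists _ e
    obtain ⟨_, ⟨U, hU, rfl⟩, hxU, hUW⟩ :=
      X.isBasis_affineOpens.exists_subset_of_mem_open (show x ∈ (W : Set X) from hxW) W.isOpen
    have hU : IsAffineOpen U := hU
    let m' : Γ(Curv2.normalization X, pre U) :=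
      (DCoh.toP.obj (pushO X)).map (homOfLE hUW).op m
    rw [← OX.germ_map (DCoh.toP.obj (pushO X)) (homOfLE hUW) hxU m]
    show Φ (OX.germ (DCoh.toP.obj (pushO X)) U hxU m') ∈ _
    rw [hΦ]
    let _ := chartAlgebra (X := X) U
    have hm : IsIntegral Γ(X, U) m' := (Curv2.normalizationι X).isIntegral_app U hU m'
    exact IsIntegral.map_of_comp_eq (X.presheaf.germ U x hxU).hom
      ((Curv2.normalization X).presheaf.germ (pre U) _ (genericPoint_mem_pre hxU)).hom
      (RingHom.ext fun a => toFF_germ hxU a) hm
  have hsurj : ∀ y ∈ integralClosure (X.presheaf.stalk x) (Curv2.normalization X).functionField,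
      ∃ e, Φ e = y := by
    intro y hy
    obtain ⟨_, ⟨U, hU, rfl⟩, hxU, -⟩ :=
      X.isBasis_affineOpens.exists_subset_of_mem_open (Set.mem_univ x) isOpen_univ
    have hU : IsAffineOpen U := hU
    have : Nonempty U := ⟨⟨_, hxU⟩⟩
    let _ := chartAlgebra (X := X) U
    let _ := TopCat.Presheaf.algebra_section_stalk X.presheaf (⟨x, hxU⟩ : U)
    have := hU.isLocalization_stalk ⟨x, hxU⟩
    have : Nonempty (pre U) := ⟨⟨_, genericPoint_mem_pre hxU⟩⟩
    have := functionField_isFractionRing_of_isAffineOpen (Curv2.normalization X) (pre U) (isAffineOpen_pre hU)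
    let _ : Algebra Γ(X, U) (Curv2.normalization X).functionField :=
      ((algebraMap Γ(Curv2.normalization X, pre U) (Curv2.normalization X).functionField).comp
        (algebraMap Γ(X, U) _)).toAlgebra
    have : IsScalarTower Γ(X, U) Γ(Curv2.normalization X, pre U) (Curv2.normalization X).functionField :=
      IsScalarTower.of_algebraMap_eq fun a => rfl
    have : IsScalarTower Γ(X, U) (X.presheaf.stalk x) (Curv2.normalization X).functionField :=
      IsScalarTower.of_algebraMap_eq fun a => (toFF_germ hxU a).symm
    obtain ⟨⟨s, hs⟩, hint'⟩ := IsIntegral.exists_multiple_integral_of_isLocalization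
      (hU.primeIdealOf ⟨x, hxU⟩).asIdeal.primeCompl (Rₘ := X.presheaf.stalk x) y hy
    obtain ⟨_, _⟩ := isIntegrallyClosed_chart hU
    obtain ⟨b, hb⟩ := IsIntegrallyClosed.isIntegral_iff.1 (hint'.tower_top (A := Γ(Curv2.normalization X, pre U)))
    obtain ⟨v, hv⟩ := (IsLocalization.map_units (X.presheaf.stalk x)
      (⟨s, hs⟩ : (hU.primeIdealOf ⟨x, hxU⟩).asIdeal.primeCompl)).exists_left_inv
    refine ⟨v • OX.germ (DCoh.toP.obj (pushO X)) U hxU b, ?_⟩
    rw [map_smul, hΦ]
    have hb' : (Curv2.normalization X).presheaf.germ (pre U) _ (genericPoint_mem_pre hxU) b =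
        algebraMap (X.presheaf.stalk x) (Curv2.normalization X).functionField
          (algebraMap Γ(X, U) (X.presheaf.stalk x) s) * y := by
      rw [← IsScalarTower.algebraMap_apply]
      refine hb.trans ?_
      rw [Submonoid.smul_def, Algebra.smul_def]
    rw [Algebra.smul_def, hb', ← mul_assoc, ← map_mul, hv, map_one, one_mul]
  let Ψ : OX.stalkObj x (DCoh.toP.obj (pushO X)) →ₗ[X.presheaf.stalk x]
      integralClosure (X.presheaf.stalk x) (Curv2.normalization X).functionField :=
    LinearMap.codRestrict
      (Subalgebra.toSubmodule (integralClosure (X.presheaf.stalk x) (Curv2.normalization X).functionField)) Φ hint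
  refine ⟨LinearEquiv.ofBijective Ψ ⟨fun a b h => hinj (congrArg Subtype.val h), fun y => ?_⟩, ?_⟩
  · obtain ⟨e, he⟩ := hsurj y.1 y.2
    exact ⟨e, Subtype.ext he⟩
  · exact Subtype.ext ((hΦ ⊤ trivial 1).trans (map_one _))

theorem stalk_unitToPush_apply (x : X) (a : (OX.stalk x).obj (Coh.structureModule X)) :
    ∃ r : X.presheaf.stalk x, ((OX.stalk x).map (ClSub.unitToPush (Curv2.normalizationι X))).hom a =
      r • OX.germ (DCoh.toP.obj (pushO X)) ⊤ trivial (1 : Γ(Curv2.normalization X, pre ⊤)) := by
  obtain ⟨U, hx, m, rfl⟩ := OX.germ_exists (DCoh.toP.obj (Coh.structureModule X)) a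
  refine ⟨X.presheaf.germ U x hx m, ?_⟩
  refine (OX.stalkPre_map_germ (DCoh.toP.map (ClSub.unitToPush (Curv2.normalizationι X))) U hx m).trans ?_
  rw [← OX.germ_map (DCoh.toP.obj (pushO X)) (homOfLE (le_top (a := U))) hx
    (1 : Γ(Curv2.normalization X, pre ⊤))]
  refine Eq.trans ?_ (OX.germ_smul' (DCoh.toP.obj (pushO X)) U hx m _)
  refine congrArg (OX.germ (DCoh.toP.obj (pushO X)) U hx) ?_
  show (Curv2.normalizationι X).app U m = (Curv2.normalizationι X).app U m *
    ((Curv2.normalization X).presheaf.map (homOfLE ((Curv2.normalizationι X).preimage_mono (le_top (a := U)))).op) 1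
  rw [map_one, mul_one]

theorem stalk_unitToPush_germ_one (x : X) :
    ((OX.stalk x).map (ClSub.unitToPush (Curv2.normalizationι X))).hom
        (OX.germ (DCoh.toP.obj (Coh.structureModule X)) ⊤ trivial (1 : Γ(X, ⊤))) =
      OX.germ (DCoh.toP.obj (pushO X)) ⊤ trivial (1 : Γ(Curv2.normalization X, pre ⊤)) := by
  refine (OX.stalkPre_map_germ (DCoh.toP.map (ClSub.unitToPush (Curv2.normalizationι X))) ⊤ trivial _).trans ?_
  exact congrArg _ (map_one ((Curv2.normalizationι X).app ⊤).hom)

theorem mono_unitToPush : Mono (ClSub.unitToPush (Curv2.normalizationι X)) := by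
  refine (OX.mono_iff _).2 fun x => (ModuleCat.mono_iff_injective _).2 ?_
  rw [injective_iff_map_eq_zero]
  intro a ha
  obtain ⟨U, hx, m, rfl⟩ := OX.germ_exists (DCoh.toP.obj (Coh.structureModule X)) a
  have h1 := (OX.stalkPre_map_germ (DCoh.toP.map (ClSub.unitToPush (Curv2.normalizationι X))) U hx m).symm.trans ha
  let _ := (toFF (X := X) x).toAlgebra
  obtain ⟨Φ, hΦ⟩ := exists_stalk_to_ff (X := X) x
  have h2 : toFF x (X.presheaf.germ U x hx m) = 0 :=
    ((toFF_germ hx m).trans (hΦ U hx _).symm).trans ((congrArg Φ h1).trans (map_zero Φ))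
  have := isFractionRing_stalk_ff (X := X) x
  have h3 : X.presheaf.germ U x hx m = 0 :=
    IsFractionRing.injective (X.presheaf.stalk x) (Curv2.normalization X).functionField (h2.trans (map_zero _).symm)
  have h4 : m = 0 := germ_injective_of_isIntegral X _ hx (h3.trans (map_zero _).symm)
  rw [h4]
  exact map_zero _

/-- The cokernel of `O_X ⟶ ν_* O` has stalk length the delta invariant. -/
theorem length_stalk_cokernel (x : X) :
    Module.length (X.presheaf.stalk x)
        ((cokernel (ClSub.unitToPush (Curv2.normalizationι X))).presheaf.stalk x) =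
      Curv2.deltaInv (X.presheaf.stalk x) := by
  let _ := (toFF (X := X) x).toAlgebra
  obtain ⟨e, he⟩ := exists_stalk_equiv (X := X) x
  have := isFractionRing_stalk_ff (X := X) x
  let F := FractionRing.algEquiv (X.presheaf.stalk x) (Curv2.normalization X).functionField
  let e' : (OX.stalk x).obj (pushO X) ≃ₗ[X.presheaf.stalk x]
      integralClosure (X.presheaf.stalk x) (FractionRing (X.presheaf.stalk x)) :=
    e.trans F.mapIntegralClosure.symm.toLinearEquiv
  have he' : e' (OX.germ (DCoh.toP.obj (pushO X)) ⊤ trivial (1 : Γ(Curv2.normalization X, pre ⊤))) = 1 :=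
    (congrArg F.mapIntegralClosure.symm he).trans (map_one _)
  let S := ((OX.stalk x).map (ClSub.unitToPush (Curv2.normalizationι X))).hom
  have hS : (LinearMap.range S).map (e' : _ →ₗ[X.presheaf.stalk x] _) =
      LinearMap.range (Algebra.linearMap (X.presheaf.stalk x)
        (integralClosure (X.presheaf.stalk x) (FractionRing (X.presheaf.stalk x)))) := by
    refine le_antisymm ?_ ?_
    · rintro _ ⟨_, ⟨a, rfl⟩, rfl⟩
      obtain ⟨r, hr⟩ := stalk_unitToPush_apply x a
      refine ⟨r, ?_⟩
      show _ = e' (S a)
      rw [show S a = _ from hr, map_smul, he', Algebra.smul_def, mul_one]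
      rfl
    · rintro _ ⟨r, rfl⟩
      refine ⟨_, ⟨r • OX.germ (DCoh.toP.obj (Coh.structureModule X)) ⊤ trivial (1 : Γ(X, ⊤)), rfl⟩, ?_⟩
      show e' (S (r • OX.germ (DCoh.toP.obj (Coh.structureModule X)) ⊤ trivial (1 : Γ(X, ⊤)))) = _
      rw [map_smul, show S _ = _ from stalk_unitToPush_germ_one x, map_smul, he', Algebra.smul_def, mul_one]
      rfl
  have i1 := (PreservesCokernel.iso (OX.stalk x) (ClSub.unitToPush (Curv2.normalizationι X)) ≪≫
    ModuleCat.cokernelIsoRangeQuotient _).toLinearEquiv
  exact (i1.trans (Submodule.Quotient.equiv _ _ e' hS)).length_eq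

theorem deltaInv_eq_zero_of_isField (A : Type u) [CommRing A] (hA : IsField A) : Curv2.deltaInv A = 0 := by
  have : Nontrivial A := hA.nontrivial
  have h : Function.Surjective (algebraMap A (FractionRing A)) :=
    (IsField.localization_map_bijective (M := nonZeroDivisors A) zero_notMem_nonZeroDivisors hA).2
  rw [Curv2.deltaInv, Module.length_eq_zero_iff, Submodule.Quotient.subsingleton_iff]
  refine eq_top_iff.2 fun y _ => ?_
  obtain ⟨a, ha⟩ := h y.1
  exact ⟨a, Subtype.ext ha⟩

end GrothLib.NormFib
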