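import Groth.Agent.Lib.NormFib.Algebra
import Groth.Agent.Lib.Japanese.Curve
import Groth.Prelude.Def_Curv2
import Mathlib.AlgebraicGeometry.ResidueField

/-!
The normalization of an integral scheme over an affine chart.
-/

set_option backward.isDefEq.respectTransparency false

universe u

open CategoryTheory AlgebraicGeometry

namespace GrothLib.NormFib

variable {X : Scheme.{u}} [IsIntegral X]
  [QuasiCompact (X.fromSpecStalk (genericPoint X))] [QuasiSeparated (X.fromSpecStalk (genericPoint X))]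

/-- The chart of the normalization over an open of the base. -/
noncomputable abbrev pre (U : X.Opens) : (Curv2.normalization X).Opens :=
  Curv2.normalizationι X ⁻¹ᵁ U

instance : IsIntegralHom (Curv2.normalizationι X) :=
  inferInstanceAs (IsIntegralHom (X.fromSpecStalk (genericPoint X)).fromNormalization)

instance : IsIntegral (Curv2.normalization X) :=
  inferInstanceAs (IsIntegral (X.fromSpecStalk (genericPoint X)).normalization)

theorem isAffineOpen_pre {U : X.Opens} (hU : IsAffineOpen U) : IsAffineOpen (pre U) :=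
  hU.preimage _

/-- The chart algebra. -/
noncomputable abbrev chartAlgebra (U : X.Opens) : Algebra Γ(X, U) Γ(Curv2.normalization X, pre U) :=
  ((Curv2.normalizationι X).app U).hom.toAlgebra

theorem exists_chart {U : X.Opens} (hU : IsAffineOpen U) [Nonempty U] :
    letI := chartAlgebra U
    ∃ (_ : Algebra Γ(Curv2.normalization X, pre U) X.functionField),
      IsScalarTower Γ(X, U) Γ(Curv2.normalization X, pre U) X.functionField ∧
      IsIntegralClosure Γ(Curv2.normalization X, pre U) Γ(X, U) X.functionField := by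
  let η := genericPoint X
  let g := X.fromSpecStalk η
  have hη : η ∈ U := ((genericPoint_spec X).mem_open_set_iff U.isOpen).mpr (by
    obtain ⟨x⟩ := ‹Nonempty U›
    exact ⟨x.1, trivial, x.2⟩)
  have htop : g ⁻¹ᵁ U = ⊤ := by
    refine top_le_iff.mp fun z _ => ?_
    have : g z ∈ Set.range g := ⟨z, rfl⟩
    rw [Scheme.range_fromSpecStalk] at this
    exact this.mem_open U.isOpen hη
  let e0 : Γ(Spec (X.presheaf.stalk η), g ⁻¹ᵁ U) ≅ X.presheaf.stalk η :=
    (Spec (X.presheaf.stalk η)).presheaf.mapIso (eqToIso htop.symm).op ≪≫ Scheme.ΓSpecIso _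
  have hcomp : g.app U ≫ e0.hom = X.presheaf.germ U η hη := by
    rw [show g.app U = _ from Scheme.fromSpecStalk_app hη]
    simp only [e0, Iso.trans_hom, Category.assoc, Functor.mapIso_hom, Iso.op_hom, eqToIso.hom, eqToHom_op]
    rw [← Functor.map_comp_assoc]
    erw [(Spec (X.presheaf.stalk η)).presheaf.map_id, Category.id_comp, Iso.inv_hom_id, Category.comp_id]
  let _ := chartAlgebra U
  let _ : Algebra Γ(X, U) Γ(Spec (X.presheaf.stalk η), g ⁻¹ᵁ U) := (g.app U).hom.toAlgebra
  let E : Γ(Spec (X.presheaf.stalk η), g ⁻¹ᵁ U) ≃ₐ[Γ(X, U)] X.functionField :=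
    { e0.commRingCatIsoToRingEquiv with
      commutes' := fun a => congrArg (fun ψ => ψ.hom a) hcomp }
  let N := g.normalizationObjIso hU
  have hN : ∀ a, N.hom (g.fromNormalization.app U a) =
      algebraMap Γ(X, U) (integralClosure Γ(X, U) Γ(Spec (X.presheaf.stalk η), g ⁻¹ᵁ U)) a := fun a => by
    have h := congrArg (fun ψ => (ψ ≫ N.hom).hom a) (g.fromNormalization_app hU)
    simp only [Category.assoc, N, Iso.inv_hom_id, Category.comp_id] at h
    exact h
  let i : Γ(Curv2.normalization X, pre U) →+* X.functionField :=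
    E.toRingEquiv.toRingHom.comp ((Subalgebra.val _).toRingHom.comp N.hom.hom)
  let _ : Algebra Γ(Curv2.normalization X, pre U) X.functionField := i.toAlgebra
  refine ⟨inferInstance, IsScalarTower.of_algebraMap_eq fun a => ?_, ⟨?_, fun {x} => ?_⟩⟩
  · show _ = E (N.hom (g.fromNormalization.app U a)).1
    rw [hN]
    exact (E.commutes a).symm
  · exact E.injective.comp (Subtype.val_injective.comp (ConcreteCategory.bijective_of_isIso N.hom).1)
  · obtain ⟨w, rfl⟩ := E.surjective x
    rw [show IsIntegral Γ(X, U) (E w) ↔ IsIntegral Γ(X, U) w from isIntegral_algEquiv E]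
    constructor
    · intro hw
      obtain ⟨b, hb⟩ := (ConcreteCategory.bijective_of_isIso N.hom).2 ⟨w, hw⟩
      exact ⟨b, congrArg (fun z => E z.1) hb⟩
    · rintro ⟨b, hb⟩
      rw [← E.injective hb]
      exact (N.hom b).2

variable {U : X.Opens} (hU : IsAffineOpen U)

/-- The prime of a point of the chart. -/
noncomputable def ptPrime (z : Curv2.normalization X) (hz : z ∈ pre U) :
    PrimeSpectrum Γ(Curv2.normalization X, pre U) :=
  (isAffineOpen_pre hU).primeIdealOf ⟨z, hz⟩

theorem fromSpec_ptPrime (z : Curv2.normalization X) (hz : z ∈ pre U) :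
    (isAffineOpen_pre hU).fromSpec (ptPrime hU z hz) = z :=
  (isAffineOpen_pre hU).fromSpec_primeIdealOf ⟨z, hz⟩

theorem comap_ptPrime (z : Curv2.normalization X) (hz : z ∈ pre U) :
    (ptPrime hU z hz).asIdeal.comap ((Curv2.normalizationι X).app U).hom =
      (hU.primeIdealOf ⟨Curv2.normalizationι X z, hz⟩).asIdeal := by
  have h := IsAffineOpen.comap_primeIdealOf_appLE U hU (pre U) (isAffineOpen_pre hU)
    (f := Curv2.normalizationι X) le_rfl hz
  rw [← Scheme.Hom.app_eq_appLE] at h
  exact congrArg PrimeSpectrum.asIdeal h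

theorem exists_pt_of_prime (Q : PrimeSpectrum Γ(Curv2.normalization X, pre U)) :
    ∃ (z : Curv2.normalization X) (hz : z ∈ pre U), ptPrime hU z hz = Q := by
  have hz : (isAffineOpen_pre hU).fromSpec Q ∈ pre U := (isAffineOpen_pre hU).range_fromSpec.le ⟨Q, rfl⟩
  exact ⟨_, hz, (isAffineOpen_pre hU).fromSpec.isOpenEmbedding.injective (fromSpec_ptPrime hU _ hz)⟩

/-- The points over a point of the chart are the primes over its prime. -/
theorem primes_over (x : X) (hx : x ∈ U) :
    letI := chartAlgebra U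
    ∃ P : {z : Curv2.normalization X // Curv2.normalizationι X z = x} →
        Ideal Γ(Curv2.normalization X, pre U),
      (∀ z, ∃ hz, P z = (ptPrime hU z.1 hz).asIdeal) ∧ Function.Injective P ∧ (∀ z, (P z).IsPrime) ∧
      (∀ z, (P z).comap (algebraMap Γ(X, U) _) = (hU.primeIdealOf ⟨x, hx⟩).asIdeal) ∧
      ∀ Q : Ideal Γ(Curv2.normalization X, pre U), Q.IsPrime →
        Q.comap (algebraMap Γ(X, U) _) = (hU.primeIdealOf ⟨x, hx⟩).asIdeal → ∃ z, P z = Q := by
  have hmem : ∀ z : {z : Curv2.normalization X // Curv2.normalizationι X z = x}, z.1 ∈ pre U :=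
    fun z => show Curv2.normalizationι X z.1 ∈ U from z.2.symm ▸ hx
  refine ⟨fun z => (ptPrime hU z.1 (hmem z)).asIdeal, fun z => ⟨_, rfl⟩, fun a b h => ?_,
    fun z => (ptPrime hU z.1 (hmem z)).isPrime, fun z => ?_, fun Q hQ hQx => ?_⟩
  · refine Subtype.ext ?_
    rw [← fromSpec_ptPrime hU a.1 (hmem a), ← fromSpec_ptPrime hU b.1 (hmem b), PrimeSpectrum.ext h]
  · obtain ⟨z, rfl⟩ := z
    exact comap_ptPrime hU z hx
  · obtain ⟨z, hz, h⟩ := exists_pt_of_prime hU ⟨Q, hQ⟩
    refine ⟨⟨z, ?_⟩, congrArg PrimeSpectrum.asIdeal h⟩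
    have h1 := comap_ptPrime hU z hz
    rw [h] at h1
    have h2 : hU.primeIdealOf ⟨x, hx⟩ = hU.primeIdealOf ⟨Curv2.normalizationι X z, hz⟩ :=
      PrimeSpectrum.ext (hQx.symm.trans h1)
    exact ((hU.fromSpec_primeIdealOf ⟨x, hx⟩).symm.trans ((congrArg hU.fromSpec h2).trans
      (hU.fromSpec_primeIdealOf _))).symm

/-- The evaluation at a point of an affine open: kernel and generation. -/
theorem eval_properties {Y : Scheme.{u}} {W : Y.Opens} (hW : IsAffineOpen W) (z : Y) (hz : z ∈ W) :
    RingHom.ker (Y.evaluation W z hz).hom = (hW.primeIdealOf ⟨z, hz⟩).asIdeal ∧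
      ∀ l : Y.residueField z, ∃ b c, (Y.evaluation W z hz).hom c ≠ 0 ∧
        l * (Y.evaluation W z hz).hom c = (Y.evaluation W z hz).hom b := by
  have hker : RingHom.ker (Y.evaluation W z hz).hom = (hW.primeIdealOf ⟨z, hz⟩).asIdeal := by
    ext a
    rw [RingHom.mem_ker]
    refine (Scheme.evaluation_eq_zero_iff_notMem_basicOpen (X := Y) z hz a).trans ?_
    have h := hW.fromSpec_preimage_basicOpen a
    have h2 := SetLike.ext_iff.1 h (hW.primeIdealOf ⟨z, hz⟩)
    have h3 : z ∈ Y.basicOpen a ↔ a ∉ (hW.primeIdealOf ⟨z, hz⟩).asIdeal := by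
      have h4 := h2
      change hW.fromSpec (hW.primeIdealOf ⟨z, hz⟩) ∈ Y.basicOpen a ↔ _ at h4
      rwa [hW.fromSpec_primeIdealOf] at h4
    rw [h3, not_not]
  refine ⟨hker, fun l => ?_⟩
  obtain ⟨v, rfl⟩ := Y.residue_surjective z l
  let _ := TopCat.Presheaf.algebra_section_stalk Y.presheaf (⟨z, hz⟩ : W)
  have := hW.isLocalization_stalk ⟨z, hz⟩
  obtain ⟨⟨b, c, hc⟩, h⟩ := IsLocalization.surj (hW.primeIdealOf ⟨z, hz⟩).asIdeal.primeCompl v
  refine ⟨b, c, fun h0 => hc (hker.le h0), ?_⟩
  exact (map_mul (Y.residue z).hom _ _).symm.trans (congrArg (Y.residue z).hom h)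

end GrothLib.NormFib
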