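import Groth.Agent.Lib.NormFib.Normal
import Groth.Agent.Lib.RedTotal.Basic

/-!
Finiteness and birationality of the normalization.
-/

set_option backward.isDefEq.respectTransparency false

universe u

open CategoryTheory AlgebraicGeometry

namespace GrothLib.NormFib

variable {X : Scheme.{u}} [IsIntegral X]
  [QuasiCompact (X.fromSpecStalk (genericPoint X))] [QuasiSeparated (X.fromSpecStalk (genericPoint X))]

theorem isFinite_of_nagata (hN : ∀ U : X.affineOpens, CAlg.IsNagata Γ(X, (U : X.Opens))) :
    IsFinite (Curv2.normalizationι X) := by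
  refine (isFinite_iff _).mpr ⟨inferInstance, fun U hU => ?_⟩
  by_cases hne : Nonempty U
  · let _ := chartAlgebra (X := X) U
    obtain ⟨_, _, hic⟩ := exists_chart hU
    have := functionField_isFractionRing_of_isAffineOpen X U hU
    have hN' := hN ⟨U, hU⟩
    have := hN'.1
    have hfin := GrothLib.RedTotal.finite_integralClosure hN'
    let E : FractionRing Γ(X, U) ≃ₐ[Γ(X, U)] X.functionField := FractionRing.algEquiv _ _
    let f : Γ(Curv2.normalization X, pre U) →ₗ[Γ(X, U)] integralClosure Γ(X, U) (FractionRing Γ(X, U)) :=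
      LinearMap.codRestrict (Subalgebra.toSubmodule (integralClosure Γ(X, U) (FractionRing Γ(X, U))))
        (E.symm.toLinearMap.comp (IsScalarTower.toAlgHom Γ(X, U) Γ(Curv2.normalization X, pre U) X.functionField).toLinearMap)
        fun b => ((IsIntegralClosure.isIntegral Γ(X, U) X.functionField b).map
          (IsScalarTower.toAlgHom Γ(X, U) Γ(Curv2.normalization X, pre U) X.functionField)).map E.symm.toAlgHom
    have hf : Function.Injective f := fun a b h =>
      IsIntegralClosure.algebraMap_injective Γ(Curv2.normalization X, pre U) Γ(X, U) X.functionField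
        (E.symm.injective (congrArg Subtype.val h))
    exact RingHom.finite_algebraMap.mpr (Module.Finite.of_injective f hf)
  · have hUbot : U = ⊥ := TopologicalSpace.Opens.ext (Set.eq_empty_iff_forall_notMem.mpr
      fun x hx => hne ⟨⟨x, hx⟩⟩)
    have hb : Curv2.normalizationι X ⁻¹ᵁ U = ⊥ := by rw [hUbot]; rfl
    have : Subsingleton Γ(Curv2.normalization X, Curv2.normalizationι X ⁻¹ᵁ U) :=
      CommRingCat.subsingleton_of_isTerminal ((Curv2.normalization X).sheaf.isTerminalOfEqEmpty hb)
    exact RingHom.Finite.of_surjective _ fun b => ⟨0, Subsingleton.elim _ _⟩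

theorem exists_isIso_of_finite (hfin : IsFinite (Curv2.normalizationι X)) :
    ∃ V : X.Opens, (V : Set X).Nonempty ∧ IsIso (Curv2.normalizationι X ∣_ V) := by
  obtain ⟨_, ⟨U, hU, rfl⟩, hxU, -⟩ :=
    X.isBasis_affineOpens.exists_subset_of_mem_open (Set.mem_univ (genericPoint X)) isOpen_univ
  have hU : IsAffineOpen U := hU
  have : Nonempty U := ⟨⟨_, hxU⟩⟩
  let _ := chartAlgebra (X := X) U
  obtain ⟨_, _, _⟩ := exists_chart hU
  have := functionField_isFractionRing_of_isAffineOpen X U hU
  have : Module.Finite Γ(X, U) Γ(Curv2.normalization X, pre U) :=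
    RingHom.finite_algebraMap.mp ((Curv2.normalizationι X).finite_app U hU)
  classical
  obtain ⟨G, hG⟩ := Module.Finite.fg_top (R := Γ(X, U)) (M := Γ(Curv2.normalization X, pre U))
  obtain ⟨⟨d, hd⟩, hdG⟩ := IsLocalization.exist_integer_multiples (nonZeroDivisors Γ(X, U)) G
    (fun b => algebraMap Γ(Curv2.normalization X, pre U) X.functionField b)
  let S : Submodule Γ(X, U) Γ(Curv2.normalization X, pre U) :=
    (LinearMap.range (Algebra.linearMap Γ(X, U) X.functionField)).comap
      (d • (IsScalarTower.toAlgHom Γ(X, U) Γ(Curv2.normalization X, pre U) X.functionField).toLinearMap)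
  have hS : ∀ b, b ∈ S := fun b => by
    have h : (⊤ : Submodule Γ(X, U) Γ(Curv2.normalization X, pre U)) ≤ S := by
      rw [← hG, Submodule.span_le]
      exact fun b hb => hdG b hb
    exact h trivial
  let V := X.basicOpen d
  have hV : IsAffineOpen V := hU.basicOpen d
  have hne : Nonempty V := by
    refine ⟨⟨genericPoint X, ?_⟩⟩
    refine (RingedSpace.mem_basicOpen X.toLocallyRingedSpace.toRingedSpace d _ hxU).mpr ?_
    have h0 : algebraMap Γ(X, U) X.functionField d ≠ 0 :=
      (map_ne_zero_iff _ (IsFractionRing.injective Γ(X, U) X.functionField)).mpr (nonZeroDivisors.ne_zero hd)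
    exact isUnit_iff_ne_zero.mpr h0
  refine ⟨V, ⟨hne.some.1, hne.some.2⟩, (isIso_morphismRestrict_iff_isIso_app _ hV).mpr ?_⟩
  let _ := chartAlgebra (X := X) V
  obtain ⟨_, _, hicV⟩ := exists_chart hV
  have := functionField_isFractionRing_of_isAffineOpen X V hV
  have hinjV := IsIntegralClosure.algebraMap_injective Γ(Curv2.normalization X, pre V) Γ(X, V) X.functionField
  refine (ConcreteCategory.isIso_iff_bijective _).mpr ⟨?_, ?_⟩
  · intro a b hab
    have h := congrArg (algebraMap Γ(Curv2.normalization X, pre V) X.functionField) hab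
    refine IsFractionRing.injective Γ(X, V) X.functionField ?_
    rw [IsScalarTower.algebraMap_apply Γ(X, V) Γ(Curv2.normalization X, pre V) X.functionField a,
      IsScalarTower.algebraMap_apply Γ(X, V) Γ(Curv2.normalization X, pre V) X.functionField b]
    exact h
  · intro w
    let _ : Algebra Γ(X, U) Γ(X, V) := (X.presheaf.map (homOfLE (X.basicOpen_le d)).op).hom.toAlgebra
    have : IsScalarTower Γ(X, U) Γ(X, V) X.functionField := IsScalarTower.of_algebraMap_eq fun a =>
      (ConcreteCategory.congr_hom (X.presheaf.germ_res (homOfLE (X.basicOpen_le d)) (genericPoint X)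
        (((genericPoint_spec X).mem_open_set_iff V.isOpen).mpr ⟨hne.some.1, trivial, hne.some.2⟩)) a).symm
    have : IsLocalization.Away d Γ(X, V) := hU.isLocalization_basicOpen d
    have hw : IsIntegral Γ(X, V) (algebraMap Γ(Curv2.normalization X, pre V) X.functionField w) :=
      (IsIntegralClosure.isIntegral Γ(X, V) X.functionField w).map (IsScalarTower.toAlgHom Γ(X, V) _ X.functionField)
    obtain ⟨⟨s, hs⟩, hint⟩ := hw.exists_multiple_integral_of_isLocalization (Submonoid.powers d) _
    obtain ⟨b, hb⟩ := (IsIntegralClosure.isIntegral_iff (A := Γ(Curv2.normalization X, pre U))).1 hint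
    obtain ⟨a, ha⟩ := hS b
    obtain ⟨n, rfl⟩ := hs
    obtain ⟨v, hv⟩ := (IsLocalization.map_units Γ(X, V) (⟨d * d ^ n, ⟨n + 1, pow_succ' d n⟩⟩ : Submonoid.powers d)).exists_left_inv
    refine ⟨algebraMap Γ(X, U) Γ(X, V) a * v, hinjV ?_⟩
    change algebraMap Γ(Curv2.normalization X, pre V) X.functionField (algebraMap Γ(X, V) _ _) = _
    rw [← IsScalarTower.algebraMap_apply, map_mul, ← IsScalarTower.algebraMap_apply Γ(X, U) Γ(X, V) X.functionField]
    have hv' := congrArg (algebraMap Γ(X, V) X.functionField) hv
    rw [map_mul, map_one, ← IsScalarTower.algebraMap_apply Γ(X, U) Γ(X, V) X.functionField] at hv'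
    have ha' : algebraMap Γ(X, U) X.functionField a = algebraMap Γ(X, U) X.functionField (d * d ^ n) *
        algebraMap Γ(Curv2.normalization X, pre V) X.functionField w := by
      refine ha.trans ?_
      show d • algebraMap Γ(Curv2.normalization X, pre U) X.functionField b = _
      rw [hb, Submonoid.smul_def, Algebra.smul_def, Algebra.smul_def, map_mul, mul_assoc]
    rw [ha', mul_comm _ (algebraMap Γ(X, V) X.functionField v), ← mul_assoc, hv', one_mul]

end GrothLib.NormFib
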