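import Groth.Prelude.Def_CAlg2
import Mathlib.RingTheory.Localization.Integral
import Mathlib.RingTheory.Localization.AtPrime.Basic
import Mathlib.RingTheory.Ideal.GoingUp
import Mathlib.RingTheory.IntegralClosure.IntegrallyClosed
import Mathlib.RingTheory.Spectrum.Prime.Basic
import Mathlib.RingTheory.Spectrum.Maximal.Basic

/-!
The primes of an integral closure over a prime, read on the integral closure of the localization.
-/

universe u

namespace GrothLib.NormFib

section

variable {A B S C K : Type u} [CommRing A] [CommRing B] [CommRing S] [CommRing C] [Field K]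
  [Algebra A K] [Algebra A B] [Algebra B K] [IsScalarTower A B K] [IsIntegralClosure B A K]
  [Algebra A S] [Algebra S K] [IsScalarTower A S K]
  [Algebra S C] [Algebra C K] [IsScalarTower S C K] [IsIntegralClosure C S K]

variable (A) in
omit [Algebra S C] [Algebra C K] [IsScalarTower S C K] [IsIntegralClosure C S K] in
include A in
theorem isIntegral_top (b : B) : IsIntegral S (algebraMap B K b) :=
  IsIntegral.tower_top (R := A) ((IsIntegralClosure.isIntegral A K b).map (IsScalarTower.toAlgHom A B K))

variable (A B S C K) in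
/-- The comparison map. -/
noncomputable def j : B →+* C where
  toFun b := IsIntegralClosure.mk' (R := S) C (algebraMap B K b)
    (isIntegral_top A b)
  map_one' := IsIntegralClosure.algebraMap_injective C S K (by
    rw [IsIntegralClosure.algebraMap_mk', map_one, map_one])
  map_mul' x y := IsIntegralClosure.algebraMap_injective C S K (by
    simp only [map_mul, IsIntegralClosure.algebraMap_mk'])
  map_zero' := IsIntegralClosure.algebraMap_injective C S K (by
    rw [IsIntegralClosure.algebraMap_mk', map_zero, map_zero])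
  map_add' x y := IsIntegralClosure.algebraMap_injective C S K (by
    simp only [map_add, IsIntegralClosure.algebraMap_mk'])

@[simp] theorem algebraMap_j (b : B) : algebraMap C K (j A B S C K b) = algebraMap B K b :=
  IsIntegralClosure.algebraMap_mk' (R := S) C _ (isIntegral_top A b)

theorem j_algebraMap (a : A) : j A B S C K (algebraMap A B a) = algebraMap S C (algebraMap A S a) :=
  IsIntegralClosure.algebraMap_injective C S K (by
    rw [algebraMap_j, ← IsScalarTower.algebraMap_apply A B K, ← IsScalarTower.algebraMap_apply S C K,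
      ← IsScalarTower.algebraMap_apply A S K])

theorem j_injective : Function.Injective (j A B S C K) := fun x y h =>
  IsIntegralClosure.algebraMap_injective B A K (by
    rw [← algebraMap_j (A := A) (S := S) (C := C) x, h, algebraMap_j])

variable (p : Ideal A) [p.IsPrime] [IsLocalization.AtPrime S p]

theorem isUnit_j {s : A} (hs : s ∉ p) : IsUnit (j A B S C K (algebraMap A B s)) := by
  rw [j_algebraMap]
  exact (IsLocalization.map_units S (⟨s, hs⟩ : p.primeCompl)).map _

theorem exists_mul_eq (c : C) :
    ∃ s, s ∉ p ∧ ∃ b : B, j A B S C K (algebraMap A B s) * c = j A B S C K b := by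
  have hc : IsIntegral S (algebraMap C K c) :=
    (IsIntegralClosure.isIntegral S K c).map (IsScalarTower.toAlgHom S C K)
  obtain ⟨⟨s, hs⟩, hint⟩ := hc.exists_multiple_integral_of_isLocalization p.primeCompl _
  obtain ⟨b, hb⟩ := (IsIntegralClosure.isIntegral_iff (A := B)).1 hint
  refine ⟨s, hs, b, IsIntegralClosure.algebraMap_injective C S K ?_⟩
  rw [map_mul, algebraMap_j, algebraMap_j, hb, ← IsScalarTower.algebraMap_apply A B K]
  exact (Algebra.smul_def s _).symm

theorem isLocalization :
    letI := (j A B S C K).toAlgebra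
    IsLocalization (Algebra.algebraMapSubmonoid B p.primeCompl) C := by
  let _ := (j A B S C K).toAlgebra
  refine (isLocalization_iff _ _).mpr ⟨?_, ?_, ?_⟩
  · rintro ⟨_, s, hs, rfl⟩
    exact isUnit_j (C := C) p hs
  · intro c
    obtain ⟨s, hs, b, hb⟩ := exists_mul_eq (A := A) (B := B) (S := S) (K := K) p c
    exact ⟨⟨b, ⟨_, s, hs, rfl⟩⟩, (mul_comm _ _).trans hb⟩
  · exact fun {x y} h => ⟨1, by rw [j_injective h]⟩

theorem comap_comap_eq (m : Ideal C) [m.IsMaximal] :
    (m.comap (j A B S C K)).comap (algebraMap A B) = p := by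
  have : Algebra.IsIntegral S C := IsIntegralClosure.isIntegral_algebra S K
  have := IsLocalization.AtPrime.isLocalRing S p
  have hm : m.comap (algebraMap S C) = IsLocalRing.maximalIdeal S :=
    IsLocalRing.eq_maximalIdeal (Ideal.isMaximal_comap_of_isIntegral_of_isMaximal m)
  rw [Ideal.comap_comap, show (j A B S C K).comp (algebraMap A B) = (algebraMap S C).comp (algebraMap A S)
    from RingHom.ext j_algebraMap, ← Ideal.comap_comap, hm]
  exact IsLocalization.AtPrime.comap_maximalIdeal S p

theorem mem_iff_of_mul_eq {m : Ideal C} (hm : m.IsPrime) {s : A} (hs : s ∉ p) {b : B} {c : C}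
    (h : j A B S C K (algebraMap A B s) * c = j A B S C K b) : c ∈ m ↔ b ∈ m.comap (j A B S C K) := by
  rw [Ideal.mem_comap, ← h]
  refine ⟨fun hc => m.mul_mem_left _ hc, fun hc => (hm.mem_or_mem hc).resolve_left fun hu => ?_⟩
  exact hm.ne_top (m.eq_top_of_isUnit_mem hu (isUnit_j p hs))

include p in
theorem comap_injective {m m' : Ideal C} (hm : m.IsPrime) (hm' : m'.IsPrime)
    (h : m.comap (j A B S C K) = m'.comap (j A B S C K)) : m = m' := by
  ext c
  obtain ⟨s, hs, b, hb⟩ := exists_mul_eq (A := A) (B := B) (S := S) (K := K) p c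
  rw [mem_iff_of_mul_eq p hm hs hb, mem_iff_of_mul_eq p hm' hs hb, h]

theorem exists_maximal (P : Ideal B) (hP : P.IsPrime) (hPp : P.comap (algebraMap A B) = p) :
    ∃ m : Ideal C, m.IsMaximal ∧ m.comap (j A B S C K) = P := by
  let _ := (j A B S C K).toAlgebra
  have := isLocalization (A := A) (B := B) (S := S) (C := C) (K := K) p
  have hd : Disjoint (Algebra.algebraMapSubmonoid B p.primeCompl : Set B) (P : Set B) := by
    rw [Set.disjoint_left]
    rintro _ ⟨s, hs, rfl⟩ hsP
    exact hs (hPp ▸ (Ideal.mem_comap.2 hsP))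
  have hq := IsLocalization.isPrime_of_isPrime_disjoint (Algebra.algebraMapSubmonoid B p.primeCompl) C P hP hd
  have hc := IsLocalization.under_map_of_isPrime_disjoint (Algebra.algebraMapSubmonoid B p.primeCompl) C hP hd
  refine ⟨P.map (algebraMap B C), ?_, hc⟩
  obtain ⟨m, hm, hle⟩ := Ideal.exists_le_maximal _ hq.ne_top
  have : Algebra.IsIntegral A B := IsIntegralClosure.isIntegral_algebra A K
  have h1 : P ≤ m.comap (j A B S C K) := hc.symm.le.trans (Ideal.comap_mono hle)
  rcases h1.eq_or_lt with h2 | h2
  · rwa [comap_injective (A := A) (B := B) (S := S) (C := C) (K := K) p hq hm.isPrime (hc.trans h2)]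
  · exact absurd (hPp.trans (comap_comap_eq p m).symm) (Ideal.IsIntegral.comap_lt_comap h2).ne

/-- Maximal ideals upstairs correspond to a family of primes over `p`. -/
theorem exists_equiv {ι : Type*} (P : ι → Ideal B) (hinj : Function.Injective P)
    (hP : ∀ i, (P i).IsPrime) (hover : ∀ i, (P i).comap (algebraMap A B) = p)
    (hsurj : ∀ Q : Ideal B, Q.IsPrime → Q.comap (algebraMap A B) = p → ∃ i, P i = Q) :
    ∃ e : MaximalSpectrum C ≃ ι, ∀ m, m.asIdeal.comap (j A B S C K) = P (e m) := by
  have h : ∀ m : MaximalSpectrum C, ∃ i, P i = m.asIdeal.comap (j A B S C K) := fun m =>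
    have := m.isMaximal
    hsurj _ (Ideal.comap_isPrime _ _) (comap_comap_eq p m.asIdeal)
  choose f hf using h
  refine ⟨Equiv.ofBijective f ⟨fun m m' hmm => ?_, fun i => ?_⟩, fun m => (hf m).symm⟩
  · refine MaximalSpectrum.ext (comap_injective (A := A) (B := B) (S := S) (C := C) (K := K) p
      m.isMaximal.isPrime m'.isMaximal.isPrime ?_)
    rw [← hf, ← hf, hmm]
  · obtain ⟨m, hm, hmP⟩ := exists_maximal (S := S) (C := C) (K := K) p (P i) (hP i) (hover i)
    exact ⟨⟨m, hm⟩, hinj ((hf _).trans hmP)⟩

include p in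
/-- The residue field of a maximal ideal upstairs. -/
theorem exists_residue_equiv (m : Ideal C) [hm : m.IsMaximal] {L : Type u} [Field L] (f : B →+* L)
    (hker : RingHom.ker f = m.comap (j A B S C K))
    (hgen : ∀ l : L, ∃ b c : B, f c ≠ 0 ∧ l * f c = f b) :
    ∃ θ : (C ⧸ m) ≃+* L, ∀ b, θ (Ideal.Quotient.mk m (j A B S C K b)) = f b := by
  let q : B →+* C ⧸ m := (Ideal.Quotient.mk m).comp (j A B S C K)
  have hkq : RingHom.ker q = RingHom.ker f := by
    rw [hker, ← RingHom.comap_ker, Ideal.mk_ker]
  let _ := Ideal.Quotient.field m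
  let _ := (j A B S C K).toAlgebra
  have := isLocalization (A := A) (B := B) (S := S) (C := C) (K := K) p
  have hu : ∀ y : Algebra.algebraMapSubmonoid B p.primeCompl, IsUnit (f y) := by
    rintro ⟨_, s, hs, rfl⟩
    refine isUnit_iff_ne_zero.2 fun h => ?_
    rw [← RingHom.mem_ker, hker, ← Ideal.mem_comap, comap_comap_eq p m] at h
    exact hs h
  let χ : C →+* L := IsLocalization.lift hu
  have hχ : ∀ b, χ (j A B S C K b) = f b := fun b => IsLocalization.lift_eq hu b
  have hkχ : RingHom.ker χ = m := by
    refine comap_injective (A := A) (B := B) (S := S) (C := C) (K := K) p (RingHom.ker_isPrime χ) hm.isPrime ?_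
    rw [RingHom.comap_ker, ← hker]
    exact congrArg RingHom.ker (RingHom.ext hχ)
  let χ' : C ⧸ m →+* L := Ideal.Quotient.lift m χ fun c hc => by rwa [← RingHom.mem_ker, hkχ]
  have hsurj : Function.Surjective χ' := fun l => by
    obtain ⟨b, c, hc, hl⟩ := hgen l
    refine ⟨q b * (q c)⁻¹, ?_⟩
    rw [map_mul, map_inv₀]
    change χ (j A B S C K b) * (χ (j A B S C K c))⁻¹ = l
    rw [hχ, hχ, ← hl, mul_assoc, mul_inv_cancel₀ hc, mul_one]
  refine ⟨RingEquiv.ofBijective χ' ⟨χ'.injective, hsurj⟩, hχ⟩

end

section normRed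

variable (S K : Type u) [CommRing S] [IsDomain S] [Field K] [Algebra S K] [IsFractionRing S K]

/-- The normalization of the reduction of a domain, inside the fraction field. -/
theorem exists_normRed_isIntegralClosure :
    ∃ (_ : Algebra S (CAlg2.normRed S)) (_ : Algebra (CAlg2.normRed S) K)
      (_ : IsScalarTower S (CAlg2.normRed S) K),
      IsIntegralClosure (CAlg2.normRed S) S K ∧
      (algebraMap S (CAlg2.normRed S)) =
        (algebraMap (CAlg2.red S) (CAlg2.normRed S)).comp (Ideal.Quotient.mk (nilradical S)) := by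
  have hnil : nilradical S = ⊥ := nilradical_eq_zero S
  have : IsDomain (CAlg2.red S) := (Ideal.Quotient.isDomain_iff_prime _).2 (hnil ▸ Ideal.isPrime_bot)
  let l : CAlg2.red S →ₐ[S] K := Ideal.Quotient.liftₐ (nilradical S) (Algebra.ofId S K) (fun a ha => by
    rw [hnil, Ideal.mem_bot] at ha
    rw [ha, map_zero])
  have hl : Function.Injective l := by
    rw [injective_iff_map_eq_zero]
    intro a ha
    obtain ⟨a, rfl⟩ := Ideal.Quotient.mk_surjective a
    have : algebraMap S K a = 0 := ha
    rw [IsFractionRing.injective S K (this.trans (map_zero _).symm), map_zero]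
  let ι : FractionRing (CAlg2.red S) →ₐ[S] K := AlgHom.mk' (IsFractionRing.lift (g := l.toRingHom) hl) fun c x => by
    rw [Algebra.smul_def, Algebra.smul_def, map_mul,
      IsScalarTower.algebraMap_apply S (CAlg2.red S) (FractionRing (CAlg2.red S)), IsFractionRing.lift_algebraMap]
    exact congrArg (· * _) (AlgHom.commutes l c)
  let i : CAlg2.normRed S →+* K := ι.toRingHom.comp (Subalgebra.val (integralClosure (CAlg2.red S) _)).toRingHom
  let _ : Algebra S (CAlg2.normRed S) :=
    ((algebraMap (CAlg2.red S) (CAlg2.normRed S)).comp (Ideal.Quotient.mk (nilradical S))).toAlgebra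
  let _ : Algebra (CAlg2.normRed S) K := i.toAlgebra
  have hsurj : Function.Surjective ι := fun x => by
    obtain ⟨a, b, hb, rfl⟩ := IsFractionRing.div_surjective (A := S) x
    exact ⟨algebraMap S _ a / algebraMap S _ b, by rw [map_div₀, AlgHom.commutes, AlgHom.commutes]⟩
  have htow : IsScalarTower S (CAlg2.normRed S) K := IsScalarTower.of_algebraMap_eq fun s => (ι.commutes s).symm
  refine ⟨inferInstance, inferInstance, htow, ⟨fun a b h => Subtype.ext (ι.toRingHom.injective h), fun {x} => ?_⟩, rfl⟩
  obtain ⟨w, rfl⟩ := hsurj x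
  rw [isIntegral_algHom_iff ι ι.toRingHom.injective]
  constructor
  · intro hw
    exact ⟨⟨w, hw.tower_top⟩, rfl⟩
  · rintro ⟨y, hy⟩
    have : Algebra.IsIntegral S (CAlg2.red S) :=
      Algebra.IsIntegral.of_finite S (CAlg2.red S)
    rw [← ι.toRingHom.injective hy]
    exact isIntegral_trans (y : FractionRing (CAlg2.red S)) y.2

end normRed

end GrothLib.NormFib
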