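import Mathlib.Topology.Algebra.InfiniteSum.ENNReal
import Mathlib.Topology.Instances.ENat
import Mathlib.Data.Real.ENatENNReal
import Mathlib.Data.ENat.Lattice

/-!
The cardinality of a sigma type as an infinite sum of natural numbers or infinity.
-/

namespace GrothLib.NormFib

open Filter
open scoped ENNReal

theorem card_sigma_eq_tsum {ι : Type*} (β : ι → Type*) :
    ENat.card (Σ i, β i) = ∑' i, ENat.card (β i) := by
  classical
  let f : ι → ℕ∞ := fun i => ENat.card (β i)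
  let L : ℕ∞ := ⨆ s : Finset ι, ∑ i ∈ s, f i
  have hsum : HasSum f L :=
    tendsto_atTop_iSup (f := fun s : Finset ι => ∑ i ∈ s, f i) fun s t hst => Finset.sum_le_sum_of_subset hst
  rw [show (∑' i, ENat.card (β i)) = L from hsum.tsum_eq, ← ENat.toENNReal_inj]
  have hcast : ∀ s : Finset ι, ((∑ i ∈ s, f i : ℕ∞) : ℝ≥0∞) = ∑ i ∈ s, (f i : ℝ≥0∞) :=
    fun s => map_sum ENat.toENNRealRingHom f s
  have h1 : ∑' i, (f i : ℝ≥0∞) = (ENat.card (Σ i, β i) : ℝ≥0∞) := by
    rw [← ENNReal.tsum_one, ENNReal.tsum_sigma fun _ _ => (1 : ℝ≥0∞)]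
    simp [f]
  rw [← h1]
  refine le_antisymm ?_ ?_
  · rw [ENNReal.tsum_eq_iSup_sum]
    refine iSup_le fun s => ?_
    rw [← hcast, ENat.toENNReal_le]
    exact le_iSup (fun s : Finset ι => ∑ i ∈ s, f i) s
  · by_cases hL : L = ⊤
    · rw [hL, ENat.toENNReal_top, top_le_iff]
      refine ENNReal.eq_top_of_forall_nnreal_le fun r => ?_
      obtain ⟨n, hn⟩ := exists_nat_ge r
      obtain ⟨s, hs⟩ := lt_iSup_iff.1 (show (n : ℕ∞) < L from hL ▸ ENat.natCast_lt_top n)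
      calc (r : ℝ≥0∞) ≤ (n : ℝ≥0∞) := by exact_mod_cast hn
        _ ≤ ∑ i ∈ s, (f i : ℝ≥0∞) := by
          rw [← hcast, ← ENat.toENNReal_coe, ENat.toENNReal_le]
          exact hs.le
        _ ≤ ∑' i, (f i : ℝ≥0∞) := ENNReal.sum_le_tsum s
    · obtain ⟨s, hs⟩ := ENat.exists_eq_iSup_of_lt_top (f := fun s : Finset ι => ∑ i ∈ s, f i)
        (lt_top_iff_ne_top.2 hL)
      rw [show L = ∑ i ∈ s, f i from hs.symm, hcast]
      exact ENNReal.sum_le_tsum s

end GrothLib.NormFib
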