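import Groth.Agent.Lib.DVRDom.KrullAkizuki
import Mathlib.RingTheory.Artinian.Ring
import Mathlib.RingTheory.HopkinsLevitzki
import Mathlib.RingTheory.Length
import Mathlib.RingTheory.Spectrum.Prime.Basic

/-!
Krull–Akizuki for a ring between a one-dimensional noetherian domain and its fraction field.
-/

namespace GrothLib.NormFib

open Module
open scoped Pointwise
open GrothLib.DVRDom

universe u

variable {R : Type u} [CommRing R] [IsDomain R] [IsNoetherianRing R] [Ring.DimensionLEOne R]
  {K : Type u} [Field K] [Algebra R K] [IsFractionRing R K]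
  {B : Type u} [CommRing B] [Algebra R B] [Algebra B K] [IsScalarTower R B K]

/-- The quotient by a nonzero element of the base has bounded finitely generated submodules. -/
theorem isFiniteLength_quotient (hB : Function.Injective (algebraMap B K)) {a : R} (ha : a ≠ 0) :
    IsFiniteLength R (B ⧸ Ideal.span {algebraMap R B a}) := by
  classical
  obtain ⟨N, hN⟩ := ENat.ne_top_iff_exists.mp (Ring.ord_ne_top (mem_nonZeroDivisors_of_ne_zero ha))
  let A : Ideal B := Ideal.span {algebraMap R B a}
  let incl : B →ₗ[R] K := (IsScalarTower.toAlgHom R B K).toLinearMap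
  let q : B →ₗ[R] B ⧸ A := (Submodule.mkQ A).restrictScalars R
  have key : ∀ P : Submodule R (B ⧸ A), P.FG → Module.length R P ≤ N := by
    intro P hP
    obtain ⟨s, hs⟩ := hP
    choose g hg using fun z : B ⧸ A ↦ Submodule.mkQ_surjective A z
    let M : Submodule R B := Submodule.span R (g '' (s : Set (B ⧸ A)))
    have hM : M.FG := Submodule.fg_span ((s.finite_toSet).image g)
    have hMP : M.map q = P := by
      rw [← hs, Submodule.map_span, ← Set.image_comp]
      congr 1
      ext z
      simp [q, hg]
    obtain ⟨j, hj⟩ := exists_injective_to_ring (M.map incl) (hM.map incl)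
    let j' : M →ₗ[R] R := j.comp ((incl.comp M.subtype).codRestrict (M.map incl)
      fun m ↦ Submodule.mem_map_of_mem m.2)
    have hj' : Function.Injective j' := fun u v huv ↦ Subtype.ext (hB (congrArg Subtype.val (hj huv)))
    let I : Ideal R := LinearMap.range j'
    let φ : M →ₗ[R] R ⧸ (a • I : Ideal R) := (Submodule.mkQ _).comp j'
    have hrange : LinearMap.range φ =
        LinearMap.range ((Submodule.mkQ (a • I : Ideal R)).comp I.subtype) := by
      conv_rhs => rw [LinearMap.range_comp, Submodule.range_subtype]
      exact LinearMap.range_comp _ _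
    let ψ : M →ₗ[R] B ⧸ A := q.comp M.subtype
    have hker : LinearMap.ker φ ≤ LinearMap.ker ψ := by
      intro m hm
      have hm' : j' m ∈ (a • I : Ideal R) := (Submodule.Quotient.mk_eq_zero _).mp hm
      obtain ⟨_, ⟨m', rfl⟩, hm''⟩ := hm'
      have : m = a • m' := hj' (by rw [map_smul]; exact hm''.symm)
      subst this
      show Submodule.mkQ A ((a • m' : M) : B) = 0
      rw [Submodule.mkQ_apply, Submodule.Quotient.mk_eq_zero]
      exact Ideal.mem_span_singleton.mpr ⟨(m' : B), by rw [SetLike.val_smul, Algebra.smul_def]⟩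
    have hψ : LinearMap.range ψ = P := by
      rw [LinearMap.range_comp, Submodule.range_subtype, hMP]
    calc Module.length R P = Module.length R (M ⧸ LinearMap.ker ψ) := by
          rw [← hψ]; exact ψ.quotKerEquivRange.length_eq.symm
      _ ≤ Module.length R (M ⧸ LinearMap.ker φ) :=
        Module.length_le_of_surjective (Submodule.factor hker) (Submodule.factor_surjective hker)
      _ = Module.length R (LinearMap.range φ) := φ.quotKerEquivRange.length_eq
      _ ≤ N := by rw [hrange, hN]; exact length_ideal_map_le ha I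
  refine Module.length_ne_top_iff.mp (ne_top_of_le_ne_top (ENat.natCast_ne_top N) ?_)
  have := isNoetherian_of_forall_fg_length_le key
  rw [← Module.length_top (R := R) (M := B ⧸ A)]
  exact key ⊤ (IsNoetherian.noetherian _)

theorem exists_mem_map (hB : Function.Injective (algebraMap B K)) {J : Ideal B} (hJ : J ≠ ⊥) :
    ∃ a : R, a ≠ 0 ∧ algebraMap R B a ∈ J := by
  obtain ⟨y, hyJ, hy⟩ := Submodule.exists_mem_ne_zero_of_ne_bot hJ
  obtain ⟨a, b, hb, hab⟩ := IsFractionRing.div_surjective (A := R) (algebraMap B K y)
  have hb' : algebraMap R K b ≠ 0 :=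
    (map_ne_zero_iff _ (IsFractionRing.injective R K)).mpr (nonZeroDivisors.ne_zero hb)
  have hay : algebraMap R B a = algebraMap R B b * y := hB (by
    rw [map_mul, ← IsScalarTower.algebraMap_apply, ← IsScalarTower.algebraMap_apply, ← hab,
      mul_div_cancel₀ _ hb'])
  refine ⟨a, fun h => ?_, hay ▸ J.mul_mem_left _ hyJ⟩
  rw [h, map_zero, zero_div] at hab
  exact hy (hB (hab.symm.trans (map_zero _).symm))

variable (R) in
include R in
/-- **Krull–Akizuki**: such a ring is noetherian. -/
theorem isNoetherianRing_of_injective (hB : Function.Injective (algebraMap B K)) : IsNoetherianRing B := by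
  refine (isNoetherianRing_iff_ideal_fg _).mpr fun J ↦ ?_
  rcases eq_or_ne J ⊥ with rfl | hJ
  · exact Submodule.fg_bot
  obtain ⟨a, ha, haJ⟩ := exists_mem_map (R := R) hB hJ
  let A : Ideal B := Ideal.span {algebraMap R B a}
  obtain ⟨_, _⟩ := isFiniteLength_iff_isNoetherian_isArtinian.mp (isFiniteLength_quotient hB ha)
  have : IsNoetherian B (B ⧸ A) := isNoetherian_of_tower R inferInstance
  have hmap : (Submodule.map (Submodule.mkQ A) J).FG := IsNoetherian.noetherian _
  refine Submodule.fg_of_fg_map_of_fg_inf_ker (Submodule.mkQ A) hmap ?_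
  rw [Submodule.ker_mkQ, inf_eq_right.mpr ((Ideal.span_singleton_le_iff_mem J).mpr haJ)]
  exact Submodule.fg_span_singleton _

/-- Primes over a nonzero prime are finitely many, with finite residue rings. -/
theorem finite_primes_over (hB : Function.Injective (algebraMap B K)) (p : Ideal R) (hp : p ≠ ⊥) :
    {P : Ideal B | P.IsPrime ∧ p ≤ P.comap (algebraMap R B)}.Finite ∧
      ∀ P : Ideal B, p ≤ P.comap (algebraMap R B) → Module.Finite R (B ⧸ P) := by
  obtain ⟨a, hap, ha⟩ := Submodule.exists_mem_ne_zero_of_ne_bot hp
  let A : Ideal B := Ideal.span {algebraMap R B a}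
  obtain ⟨_, _⟩ := isFiniteLength_iff_isNoetherian_isArtinian.mp (isFiniteLength_quotient hB ha)
  refine ⟨?_, fun P hP => ?_⟩
  · have : IsArtinianRing (B ⧸ A) := isArtinian_of_tower R inferInstance
    have hfin : Finite (PrimeSpectrum (B ⧸ A)) := inferInstance
    refine Set.Finite.subset (Set.finite_range fun Q : PrimeSpectrum (B ⧸ A) => Q.asIdeal.comap (Ideal.Quotient.mk A)) ?_
    rintro P ⟨hPp, hP⟩
    have hle : A ≤ P := (Ideal.span_singleton_le_iff_mem P).2 (hP hap)
    exact ⟨⟨_, Ideal.isPrime_map_quotientMk_of_isPrime hle⟩,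
      Ideal.comap_map_mk hle⟩
  · have hle : A ≤ P := (Ideal.span_singleton_le_iff_mem P).2 (hP hap)
    exact Module.Finite.of_surjective ((Submodule.factor hle).restrictScalars R) (Submodule.factor_surjective hle)

end GrothLib.NormFib
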